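import Groth.Agent.Hensel20.Jacobian
import Groth.Agent.Hensel20.SmoothLift
import Mathlib.RingTheory.MvPolynomial.Localization
import Mathlib.RingTheory.AdicCompletion.Algebra
import Mathlib.RingTheory.Nakayama
import Mathlib.RingTheory.Smooth.Basic

/-!
Elkik's approximation over a henselian pair `(A, tA)` with bounded `t`-torsion, for a finite type
algebra which is smooth after inverting `t`.

The relations `f` of the algebra come with a matrix `G` such that `M = Df * G` satisfies
`t ^ c * f = M f` modulo `(f) ^ 2`; differentiating, `M ^ 2 = t ^ c * M` modulo `(f)`. This turns the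
overdetermined system into a square one with invertible Jacobian modulo `t`.
-/

set_option autoImplicit false
universe u

open MvPolynomial

namespace Groth.Agent.CAlg9.Elkik

variable {A : Type u} [CommRing A]

/-- Relations of a formally smooth algebra, for a given presentation, are split by the Jacobian. -/
theorem relations_split {S : Type u} [CommRing S] [Algebra A S] [Algebra.FormallySmooth A S]
    {n r : ℕ} (π : MvPolynomial (Fin n) A →ₐ[A] S) (hπ : Function.Surjective π)
    (g : Fin r → MvPolynomial (Fin n) A) (hg : Ideal.span (Set.range g) = RingHom.ker π) :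
    ∃ G : Fin n → Fin r → MvPolynomial (Fin n) A,
      ∀ j, g j - ∑ k, pderiv k (g j) * ∑ l, G k l * g l ∈ RingHom.ker π ^ 2 := by
  let P := MvPolynomial (Fin n) A
  let K : Ideal P := RingHom.ker π
  change Ideal.span (Set.range g) = K at hg
  let m : P →ₐ[A] P ⧸ K ^ 2 := Ideal.Quotient.mkₐ A _
  let π₂ : P ⧸ K ^ 2 →ₐ[A] S := Ideal.Quotient.liftₐ _ π fun a ha =>
    RingHom.mem_ker.mp (Ideal.pow_le_self two_ne_zero ha)
  have hπ₂ : Function.Surjective π₂ := fun y => by
    obtain ⟨p, rfl⟩ := hπ y; exact ⟨m p, rfl⟩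
  have hnil : IsNilpotent (RingHom.ker π₂) := by
    have : RingHom.ker π₂ ≤ K.map m := fun y hy => by
      obtain ⟨p, rfl⟩ := Ideal.Quotient.mk_surjective y
      exact Ideal.mem_map_of_mem m (show p ∈ K from hy)
    refine ⟨2, le_bot_iff.mp ((Ideal.pow_right_mono this 2).trans ?_)⟩
    rw [← Ideal.map_pow, Ideal.map_le_iff_le_comap]
    intro p hp
    exact Ideal.Quotient.eq_zero_iff_mem.mpr hp
  let s : S →ₐ[A] P ⧸ K ^ 2 := Algebra.FormallySmooth.liftOfSurjective (AlgHom.id A S) π₂ hπ₂ hnil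
  have hs : ∀ y, π₂ (s y) = y := Algebra.FormallySmooth.liftOfSurjective_apply _ π₂ hπ₂ hnil
  choose y hy using fun k => Ideal.Quotient.mk_surjective (s (π (X k)))
  let c : Fin n → P := fun k => y k - X k
  have hc : ∀ k, c k ∈ K := fun k => by
    show π (y k - X k) = 0
    rw [map_sub, show π (y k) = π₂ (s (π (X k))) from congrArg π₂ (hy k), hs, sub_self]
  choose Λ hΛ using fun k => (Ideal.mem_span_range_iff_exists_fun.mp (hg ▸ hc k))
  refine ⟨fun k l => - Λ k l, fun j => ?_⟩
  have h1 : s.comp π = m.comp (aeval y) := MvPolynomial.algHom_ext fun k => by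
    rw [AlgHom.comp_apply, AlgHom.comp_apply, aeval_X]; exact (hy k).symm
  have h2 : aeval y (g j) ∈ K ^ 2 := by
    rw [← Ideal.Quotient.eq_zero_iff_mem]
    have h3 : g j ∈ K := hg ▸ Ideal.subset_span ⟨j, rfl⟩
    exact (DFunLike.congr_fun h1 (g j)).symm.trans ((congrArg s h3).trans (map_zero s))
  have h4 := Hensel20.aeval_add_sub_mem (X : Fin n → P) c hc (g j)
  rw [show (X : Fin n → P) + c = y from funext fun k => add_sub_cancel _ _] at h4
  simp only [aeval_X_left_apply] at h4
  have h5 := sub_mem h2 h4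
  have h6 : ∀ k, ∑ l, (- Λ k l) * g l = - c k := fun k => by
    simp only [neg_mul, Finset.sum_neg_distrib, hΛ k]
  simp only [h6, mul_neg, Finset.sum_neg_distrib, sub_neg_eq_add]
  convert h5 using 1
  ring

/-- Pulling a scalar into the coefficients of a splitting. -/
theorem scale_rel {S : Type u} [CommRing S] {k r : ℕ} (a g : S) (d : Fin k → S) (G : Fin k → Fin r → S)
    (h : Fin r → S) :
    a * g - ∑ j, d j * ∑ l, a * G j l * h l = a * (g - ∑ j, d j * ∑ l, G j l * h l) := by
  simp only [mul_sub, Finset.mul_sum]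
  congr 1
  exact Finset.sum_congr rfl fun j _ => Finset.sum_congr rfl fun l _ => by ring

theorem mul_sub_mul_mem {S : Type u} [CommRing S] {J : Ideal S} {a b c d : S} (h₁ : a - c ∈ J)
    (h₂ : b - d ∈ J) : a * b - c * d ∈ J := by
  convert add_mem (J.mul_mem_left a h₂) (J.mul_mem_right d h₁) using 1
  ring

/-- The data extracted from smoothness after inverting `t`. -/
theorem exists_data (t : A) {B : Type u} [CommRing B] [Algebra A B]
    (hsm : Algebra.Smooth (Localization.Away t)
      (Localization (Algebra.algebraMapSubmonoid B (Submonoid.powers t))))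
    {k : ℕ} (π : MvPolynomial (Fin k) A →ₐ[A] B) (hπ : Function.Surjective π) :
    ∃ (r c : ℕ) (f : Fin r → MvPolynomial (Fin k) A) (G : Fin k → Fin r → MvPolynomial (Fin k) A),
      (∀ i, π (f i) = 0) ∧
      (∀ g, π g = 0 → ∃ e : ℕ, C (t ^ e) * g ∈ Ideal.span (Set.range f)) ∧
      ∀ i, C (t ^ c) * f i - ∑ j, pderiv j (f i) * ∑ l, G j l * f l
        ∈ Ideal.span (Set.range f) ^ 2 := by
  classical
  let At := Localization.Away t
  let Bt := Localization (Algebra.algebraMapSubmonoid B (Submonoid.powers t))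
  let P := MvPolynomial (Fin k) A
  let P' := MvPolynomial (Fin k) At
  let _ : Algebra P P' := MvPolynomial.algebraMvPolynomial
  let N : Submonoid P := (Submonoid.powers t).map (C (σ := Fin k))
  have hloc : IsLocalization N P' := MvPolynomial.isLocalization _ _
  let π' : P' →ₐ[At] Bt := aeval fun j => algebraMap B Bt (π (X j))
  have hcompat : ∀ p : P, π' (algebraMap P P' p) = algebraMap B Bt (π p) := fun p => by
    induction p using MvPolynomial.induction_on with
    | C a =>
      rw [MvPolynomial.algebraMap_def, map_C]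
      show π' (C _) = _
      rw [aeval_C, show π (C a) = algebraMap A B a from π.commutes a,
        ← IsScalarTower.algebraMap_apply A At Bt, ← IsScalarTower.algebraMap_apply A B Bt]
    | add p q hp hq => simp only [map_add, hp, hq]
    | mul_X p i hp =>
      rw [map_mul, map_mul, hp, MvPolynomial.algebraMap_def, map_X, aeval_X, map_mul, map_mul]
  have hπ' : Function.Surjective π' := fun z => by
    obtain ⟨b, ⟨_, _, ⟨e, rfl⟩, rfl⟩, rfl⟩ :=
      IsLocalization.exists_mk'_eq (Algebra.algebraMapSubmonoid B (Submonoid.powers t)) z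
    obtain ⟨p, rfl⟩ := hπ b
    obtain ⟨u, hu⟩ := (IsLocalization.map_units At
      (⟨t ^ e, ⟨e, rfl⟩⟩ : Submonoid.powers t)).exists_right_inv
    refine ⟨algebraMap P P' p * C u, ?_⟩
    rw [IsLocalization.eq_mk'_iff_mul_eq, map_mul, hcompat, aeval_C]
    show _ * _ * algebraMap B Bt (algebraMap A B (t ^ e)) = _
    rw [← IsScalarTower.algebraMap_apply A B Bt, IsScalarTower.algebraMap_apply A At Bt,
      mul_assoc, ← map_mul, mul_comm u, hu, map_one, mul_one]
  obtain ⟨r, g, hg⟩ := Submodule.fg_iff_exists_fin_generating_family.mp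
    (Algebra.FinitePresentation.ker_fG_of_surjective π' hπ')
  change Ideal.span (Set.range g) = RingHom.ker π' at hg
  -- clear denominators of the generators
  have hnum : ∀ x : P', ∃ (e : ℕ) (p : P), algebraMap P P' (C (t ^ e)) * x = algebraMap P P' p :=
    fun x => by
      obtain ⟨⟨p, ⟨_, _, ⟨e, rfl⟩, rfl⟩⟩, hx⟩ := IsLocalization.surj N x
      exact ⟨e, p, by rw [mul_comm]; exact hx⟩
  have hunit : ∀ e : ℕ, IsUnit (algebraMap P P' (C (t ^ e))) := fun e =>
    IsLocalization.map_units P' (⟨C (t ^ e), _, ⟨e, rfl⟩, rfl⟩ : N)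
  choose e₁ q hq using fun i => hnum (g i)
  have hker : ∀ i, ∃ e : ℕ, π (C (t ^ e) * q i) = 0 := fun i => by
    have h0 : π' (g i) = 0 := by
      have : g i ∈ RingHom.ker π' := hg ▸ Ideal.subset_span ⟨i, rfl⟩
      exact this
    have h1 : algebraMap B Bt (π (q i)) = 0 := by
      rw [← hcompat, ← hq, map_mul, h0, mul_zero]
    obtain ⟨⟨_, _, ⟨e, rfl⟩, rfl⟩, he⟩ := (IsLocalization.map_eq_zero_iff
      (Algebra.algebraMapSubmonoid B (Submonoid.powers t)) Bt _).mp h1
    exact ⟨e, by rw [map_mul, show π (C (t ^ e)) = algebraMap A B (t ^ e) from π.commutes _]; exact he⟩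
  choose e₂ he₂ using hker
  let f : Fin r → P := fun i => C (t ^ e₂ i) * q i
  have hfg : ∀ i, algebraMap P P' (f i) =
      algebraMap P P' (C (t ^ e₂ i)) * algebraMap P P' (C (t ^ e₁ i)) * g i := fun i => by
    rw [mul_assoc, hq]; exact map_mul _ _ _
  have hspan : (Ideal.span (Set.range f)).map (algebraMap P P') = RingHom.ker π' := by
    rw [← hg, Ideal.map_span]
    refine le_antisymm (Ideal.span_le.mpr ?_) (Ideal.span_le.mpr ?_)
    · rintro _ ⟨_, ⟨i, rfl⟩, rfl⟩
      rw [hfg]
      exact Ideal.mul_mem_left _ _ (Ideal.subset_span ⟨i, rfl⟩)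
    · rintro _ ⟨i, rfl⟩
      have : algebraMap P P' (f i) ∈ Ideal.span (algebraMap P P' '' Set.range f) :=
        Ideal.subset_span ⟨f i, ⟨i, rfl⟩, rfl⟩
      rw [hfg] at this
      exact (Ideal.unit_mul_mem_iff_mem _ ((hunit _).mul (hunit _))).mp this
  have hsat : ∀ p : P, algebraMap P P' p ∈ RingHom.ker π' →
      ∃ e : ℕ, C (t ^ e) * p ∈ Ideal.span (Set.range f) := fun p hp => by
    rw [← hspan] at hp
    obtain ⟨_, ⟨_, ⟨e, rfl⟩, rfl⟩, he⟩ :=
      (IsLocalization.algebraMap_mem_map_algebraMap_iff N P' _ p).mp hp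
    exact ⟨e, he⟩
  obtain ⟨G', hG'⟩ := relations_split π' hπ' (fun i => algebraMap P P' (f i)) (by
    rw [← hspan, Ideal.map_span, ← Set.range_comp]; rfl)
  -- clear denominators of the splitting
  obtain ⟨⟨_, ⟨_, ⟨c, rfl⟩, rfl⟩⟩, hc⟩ := IsLocalization.exist_integer_multiples_of_finite N
    (fun p : Fin k × Fin r => G' p.1 p.2)
  choose G₀ hG₀ using fun j l => hc (j, l)
  have hG₀' : ∀ j l, algebraMap P P' (G₀ j l) = algebraMap P P' (C (t ^ c)) * G' j l := fun j l => by
    rw [hG₀]; exact Algebra.smul_def _ _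
  have hpd : ∀ (j : Fin k) (p : P),
      pderiv j (algebraMap P P' p) = algebraMap P P' (pderiv j p) := fun j p => by
    rw [MvPolynomial.algebraMap_def, pderiv_map]
  have hrel : ∀ i, ∃ e : ℕ, C (t ^ e) * (C (t ^ c) * f i - ∑ j, pderiv j (f i) * ∑ l, G₀ j l * f l)
      ∈ Ideal.span (Set.range f) ^ 2 := fun i => by
    have h : algebraMap P P' (C (t ^ c) * f i - ∑ j, pderiv j (f i) * ∑ l, G₀ j l * f l)
        ∈ (Ideal.span (Set.range f) ^ 2).map (algebraMap P P') := by
      rw [Ideal.map_pow, hspan]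
      have h' := Ideal.mul_mem_left _ (algebraMap P P' (C (t ^ c))) (hG' i)
      simp only [hpd] at h'
      rw [← scale_rel] at h'
      simp only [← hG₀'] at h'
      simpa only [map_sub, map_mul, map_sum] using h'
    obtain ⟨_, ⟨_, ⟨e, rfl⟩, rfl⟩, he⟩ :=
      (IsLocalization.algebraMap_mem_map_algebraMap_iff N P' _ _).mp h
    exact ⟨e, he⟩
  choose e₃ he₃ using hrel
  let E := Finset.univ.sup e₃
  refine ⟨r, E + c, f, fun j l => C (t ^ E) * G₀ j l, he₂, fun p hp => hsat p ?_, fun i => ?_⟩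
  · show π' (algebraMap P P' p) = 0
    rw [hcompat, hp, map_zero]
  · have hle : e₃ i ≤ E := Finset.le_sup (Finset.mem_univ i)
    obtain ⟨d, hd⟩ := Nat.exists_eq_add_of_le hle
    have h := Ideal.mul_mem_left _ (C (t ^ d)) (he₃ i)
    rw [← mul_assoc, ← map_mul, ← pow_add, add_comm, ← hd, ← scale_rel, ← mul_assoc, ← map_mul,
      ← pow_add] at h
    exact h

/-- Values at points congruent modulo `J` are congruent. -/
theorem aeval_sub_mem {k : ℕ} {S : Type u} [CommRing S] [Algebra A S] (J : Ideal S)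
    {x y : Fin k → S} (h : ∀ j, x j - y j ∈ J) (p : MvPolynomial (Fin k) A) :
    aeval x p - aeval y p ∈ J := by
  rw [← Ideal.Quotient.eq]
  show (Ideal.Quotient.mkₐ A J) (aeval x p) = (Ideal.Quotient.mkₐ A J) (aeval y p)
  rw [Hensel20.jac_map.aux, Hensel20.jac_map.aux,
    show (fun j => Ideal.Quotient.mkₐ A J (x j)) = fun j => Ideal.Quotient.mkₐ A J (y j) from
      funext fun j => Ideal.Quotient.eq.mpr (h j)]

theorem aeval_C_comp {k r : ℕ} (x : Fin k → A) (p : MvPolynomial (Fin k) A) :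
    aeval (fun j => (C (x j) : MvPolynomial (Fin r) A)) p = C (aeval x p) :=
  (Hensel20.jac_map.aux (Algebra.ofId A (MvPolynomial (Fin r) A)) x p).symm

theorem linearization (t : A) {k r : ℕ} (c a e : ℕ) (he : e = c + a) (p : MvPolynomial (Fin k) A)
    (G : Fin k → Fin r → MvPolynomial (Fin k) A) (D : Fin k → MvPolynomial (Fin k) A)
    (hD : ∀ j, D j = pderiv j p) (x : Fin k → A) (ε : A) (hx : aeval x p = t ^ e * ε) (i : Fin r)
    (h : Fin k → MvPolynomial (Fin r) A) (hdef : ∀ j, h j = C (t ^ a) * ∑ l, C (aeval x (G j l)) * X l)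
    (b : Fin k → MvPolynomial (Fin r) A) (bdef : (fun j => (C (x j) : MvPolynomial (Fin r) A)) + h = b) :
    ∃ Q, aeval b p + C (t ^ c) * (C (t ^ a) * X i)
        - ∑ l, (∑ j, aeval b (D j) * aeval b (G j l)) * (C (t ^ a) * X l) =
      C (t ^ (a + a)) * Q + C (t ^ e) * (C ε + X i) := by
  suffices H : aeval b p + C (t ^ c) * (C (t ^ a) * X i)
        - ∑ l, (∑ j, aeval b (D j) * aeval b (G j l)) * (C (t ^ a) * X l)
        - C (t ^ e) * (C ε + X i) ∈ Ideal.span {(C (t ^ a) : MvPolynomial (Fin r) A)} ^ 2 by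
    rw [sq, Ideal.span_singleton_mul_span_singleton, Ideal.mem_span_singleton, ← map_mul,
      ← pow_add] at H
    obtain ⟨Q, hQ⟩ := H
    exact ⟨Q, sub_eq_iff_eq_add.mp hQ⟩
  let R' := MvPolynomial (Fin r) A
  let J : Ideal R' := Ideal.span {C (t ^ a)}
  have hh : ∀ j, h j ∈ J := fun j => hdef j ▸ Ideal.mul_mem_right _ _ (Ideal.subset_span rfl)
  have h1 := Hensel20.aeval_add_sub_mem (fun j => (C (x j) : R')) h hh p
  rw [bdef] at h1
  simp only [aeval_C_comp, ← hD] at h1
  have hb : ∀ q : MvPolynomial (Fin k) A, aeval b q - C (aeval x q) ∈ J := fun q => by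
    rw [← aeval_C_comp]
    exact aeval_sub_mem J (fun j => by simpa [← bdef] using hh j) q
  have h2 : ∑ l, ((∑ j, aeval b (D j) * aeval b (G j l)) -
      C (∑ j, aeval x (D j) * aeval x (G j l))) * (C (t ^ a) * X l) ∈ J ^ 2 := by
    refine Ideal.sum_mem _ fun l _ => ?_
    rw [sq]
    refine Ideal.mul_mem_mul ?_ (Ideal.mul_mem_right _ _ (Ideal.subset_span rfl))
    simp only [map_sum, map_mul, ← Finset.sum_sub_distrib]
    exact Ideal.sum_mem _ fun j _ => mul_sub_mul_mem (hb _) (hb _)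
  convert sub_mem h1 h2 using 1
  have h3 : ∑ j, C (aeval x (D j)) * h j =
      ∑ l, C (∑ j, aeval x (D j) * aeval x (G j l)) * (C (t ^ a) * X l) := by
    simp only [hdef, map_sum, map_mul, Finset.mul_sum, Finset.sum_mul]
    rw [Finset.sum_comm]
    exact Finset.sum_congr rfl fun l _ => Finset.sum_congr rfl fun j _ => by ring
  rw [h3]
  simp only [sub_mul, Finset.sum_sub_distrib, hx, map_mul, map_pow, mul_add, he, pow_add]
  ring

theorem exists_root_near_linear (t s : A) [HenselianRing A (Ideal.span {t})]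
    (hs : s ∈ Ideal.span {t}) {r : ℕ} (ε : Fin r → A) (Q : Fin r → MvPolynomial (Fin r) A) :
    ∃ w : Fin r → A, ∀ i, aeval w (C (ε i) + X i + C s * Q i) = 0 := by
  classical
  let Ψ : Fin r → MvPolynomial (Fin r) A := fun i => C (ε i) + X i + C s * Q i
  have hs0 : Ideal.Quotient.mk (Ideal.span {t}) s = 0 := Ideal.Quotient.eq_zero_iff_mem.mpr hs
  obtain ⟨w, hw, -⟩ := Hensel20.exists_root_of_jacobian (I := Ideal.span {t}) Ψ (fun i => - ε i)
    (fun i => by
      have : aeval (fun i => - ε i) (Ψ i) = s * aeval (fun i => - ε i) (Q i) := by simp [Ψ]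
      rw [this]
      exact Ideal.mul_mem_right _ _ hs)
    (by
      rw [RingHom.map_det, show (Ideal.Quotient.mk (Ideal.span {t})).mapMatrix
        (Hensel20.jac Ψ fun i => - ε i) = 1 from Matrix.ext fun i l => ?_, Matrix.det_one]
      · exact isUnit_one
      by_cases hil : i = l
      · subst hil
        simp [Hensel20.jac, Ψ, pderiv_C_mul, hs0]
      · simp [Hensel20.jac, Ψ, pderiv_C_mul, hs0, pderiv_X, Pi.single_apply, hil, Matrix.one_apply_ne hil])
  exact ⟨w, hw⟩

theorem merge_factor {r : ℕ} (e s u : A) (h : u = e * s) (L Q : MvPolynomial (Fin r) A) :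
    C u * Q + C e * L = C e * (L + C s * Q) := by
  rw [h, map_mul]; ring

theorem eval_system {k r : ℕ} (b : Fin k → MvPolynomial (Fin r) A) (w : Fin r → A) (α β : A)
    (p : MvPolynomial (Fin k) A) (D : Fin k → MvPolynomial (Fin k) A)
    (G : Fin k → Fin r → MvPolynomial (Fin k) A) (i : Fin r)
    (h : aeval w (aeval b p + C α * (C β * X i)
      - ∑ l, (∑ j, aeval b (D j) * aeval b (G j l)) * (C β * X l)) = 0) :
    aeval (fun j => aeval w (b j)) p = ∑ l, (∑ j, aeval (fun j => aeval w (b j)) (D j) *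
      aeval (fun j => aeval w (b j)) (G j l)) * (β * w l) - α * (β * w i) := by
  have hb : ∀ p : MvPolynomial (Fin k) A, aeval w (aeval b p) = aeval (fun j => aeval w (b j)) p :=
    fun p => Hensel20.jac_map.aux (aeval w) b p
  simp only [map_sub, map_add, map_mul, map_sum, aeval_C, aeval_X, Algebra.algebraMap_self,
    RingHom.id_apply, hb] at h
  linear_combination h

/-- The square system: an approximate zero of `f` gives `y` near it with
`f y = (M y - t ^ c) z` and `z` divisible by a high power of `t`. -/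
theorem exists_square_root (t : A) [HenselianRing A (Ideal.span {t})] {k r : ℕ} (c m : ℕ)
    (hm : 2 * c + 1 ≤ m)
    (f : Fin r → MvPolynomial (Fin k) A) (G : Fin k → Fin r → MvPolynomial (Fin k) A)
    (x : Fin k → A) (ε : Fin r → A) (hx : ∀ i, aeval x (f i) = t ^ m * ε i) :
    ∃ (y : Fin k → A) (w : Fin r → A), (∀ j, y j - x j ∈ Ideal.span {t ^ (m - c)}) ∧
      ∀ i, aeval y (f i) = ∑ l, (∑ j, aeval y (pderiv j (f i)) * aeval y (G j l))
        * (t ^ (m - c) * w l) - t ^ c * (t ^ (m - c) * w i) := by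
  classical
  obtain ⟨d, rfl⟩ := Nat.exists_eq_add_of_le hm
  rw [show 2 * c + 1 + d - c = c + (1 + d) by omega]
  obtain ⟨a, ha⟩ : ∃ a, c + (1 + d) = a := ⟨_, rfl⟩
  rw [ha]
  obtain ⟨h, hdef⟩ : ∃ h : Fin k → MvPolynomial (Fin r) A,
      ∀ j, h j = C (t ^ a) * ∑ l, C (aeval x (G j l)) * X l := ⟨_, fun _ => rfl⟩
  obtain ⟨b, bdef⟩ : ∃ b, (fun j => (C (x j) : MvPolynomial (Fin r) A)) + h = b := ⟨_, rfl⟩
  have hlin := fun i => linearization t c a (2 * c + 1 + d) (by omega) (f i) G
    (fun j => pderiv j (f i)) (fun _ => rfl) x (ε i) (hx i) i h hdef b bdef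
  choose Q hQ using hlin
  have ht : t ^ (1 + d) ∈ Ideal.span {t} :=
    Ideal.mem_span_singleton.mpr (dvd_pow_self t (by omega))
  obtain ⟨w, hw⟩ := exists_root_near_linear t (t ^ (1 + d)) ht ε Q
  refine ⟨fun j => aeval w (b j), w, fun j => ?_, fun i => ?_⟩
  · have : b j - C (x j) = h j := by rw [← bdef]; exact add_sub_cancel_left _ _
    have h1 := congrArg (aeval w) this
    rw [map_sub, hdef, map_mul, aeval_C, aeval_C] at h1
    simp only [Algebra.algebraMap_self, RingHom.id_apply] at h1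
    show aeval w (b j) - x j ∈ _
    rw [h1]
    exact Ideal.mul_mem_right _ _ (Ideal.subset_span rfl)
  · refine eval_system b w (t ^ c) (t ^ a) (f i) (fun j => pderiv j (f i)) G i ?_
    rw [hQ i, merge_factor (t ^ (2 * c + 1 + d)) (t ^ (1 + d)) (t ^ (a + a))
      (by rw [← pow_add]; congr 1; omega), map_mul, hw, mul_zero]

/-- Differentiating `t ^ c * f = M f` modulo `(f) ^ 2` shows `M ^ 2 = t ^ c * M` modulo `(f)`. -/
theorem matrix_sq_mem (t : A) {k r : ℕ} (c : ℕ) (f : Fin r → MvPolynomial (Fin k) A)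
    (G : Fin k → Fin r → MvPolynomial (Fin k) A) (M : Fin r → Fin r → MvPolynomial (Fin k) A)
    (hMdef : ∀ i l, M i l = ∑ j, pderiv j (f i) * G j l)
    (hf : ∀ i, C (t ^ c) * f i - ∑ l, M i l * f l ∈ Ideal.span (Set.range f) ^ 2) (i s : Fin r) :
    ∑ l, M i l * M l s - C (t ^ c) * M i s ∈ Ideal.span (Set.range f) := by
  let K := Ideal.span (Set.range f)
  have hd : ∀ j, C (t ^ c) * pderiv j (f i) - ∑ l, M i l * pderiv j (f l) ∈ K := fun j => by
    have h1 := Hensel20.pderiv_mem_of_mem_sq (hf i) j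
    rw [map_sub, pderiv_C_mul, map_sum] at h1
    have h2 : ∑ l, pderiv j (M i l) * f l ∈ K :=
      Ideal.sum_mem _ fun l _ => K.mul_mem_left _ (Ideal.subset_span ⟨l, rfl⟩)
    convert add_mem h1 h2 using 1
    simp only [pderiv_mul, Finset.sum_add_distrib, smul_eq_C_mul]
    ring
  have h3 : ∑ j, (C (t ^ c) * pderiv j (f i) - ∑ l, M i l * pderiv j (f l)) * G j s ∈ K :=
    Ideal.sum_mem _ fun j _ => K.mul_mem_right _ (hd j)
  convert neg_mem h3 using 1
  have h4 : ∑ j, (∑ l, M i l * pderiv j (f l)) * G j s = ∑ l, M i l * M l s := by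
    simp only [hMdef, Finset.mul_sum, Finset.sum_mul, mul_assoc]
    rw [Finset.sum_comm]
  simp only [sub_mul, Finset.sum_sub_distrib, h4, neg_sub, mul_assoc, ← Finset.mul_sum]
  rw [hMdef i s]

/-- An approximate zero of `f` is close to a true zero. -/
theorem exists_zero (t : A) [HenselianRing A (Ideal.span {t})] {k r : ℕ} (c N m : ℕ)
    (hN : ∀ a : A, (∃ j : ℕ, t ^ j * a = 0) → t ^ N * a = 0) (hm : 2 * c + 1 + N ≤ m)
    (f : Fin r → MvPolynomial (Fin k) A) (G : Fin k → Fin r → MvPolynomial (Fin k) A)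
    (hf : ∀ i, C (t ^ c) * f i - ∑ j, pderiv j (f i) * ∑ l, G j l * f l
        ∈ Ideal.span (Set.range f) ^ 2)
    (x : Fin k → A) (hx : ∀ i, aeval x (f i) ∈ Ideal.span {t ^ m}) :
    ∃ y : Fin k → A, (∀ j, y j - x j ∈ Ideal.span {t ^ (m - c)}) ∧ ∀ i, aeval y (f i) = 0 := by
  classical
  choose ε hε using fun i => Ideal.mem_span_singleton.mp (hx i)
  obtain ⟨y, w, hy, hv⟩ := exists_square_root t c m (by omega) f G x ε hε
  refine ⟨y, hy, ?_⟩
  let M : Fin r → Fin r → MvPolynomial (Fin k) A := fun i l => ∑ j, pderiv j (f i) * G j l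
  let K := Ideal.span (Set.range f)
  let v : Fin r → A := fun i => aeval y (f i)
  let V : Ideal A := Ideal.span (Set.range v)
  let z : Fin r → A := fun l => t ^ (m - c) * w l
  have hM : ∀ i, ∑ j, pderiv j (f i) * ∑ l, G j l * f l = ∑ l, M i l * f l := fun i => by
    simp only [M, Finset.mul_sum, Finset.sum_mul, ← mul_assoc]
    exact Finset.sum_comm
  have hM2 : ∀ i s, ∑ l, M i l * M l s - C (t ^ c) * M i s ∈ K :=
    matrix_sq_mem t c f G M (fun _ _ => rfl) fun i => hM i ▸ hf i
  have hKV : K.map (aeval y) ≤ V := by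
    rw [Ideal.map_span, Ideal.span_le]
    rintro _ ⟨_, ⟨i, rfl⟩, rfl⟩
    exact Ideal.subset_span ⟨i, rfl⟩
  let My : Fin r → Fin r → A := fun i l => aeval y (M i l)
  have hv' : ∀ i, v i = ∑ l, My i l * z l - t ^ c * z i := fun i => by
    simp only [v, My, M, z, map_sum, map_mul]; exact hv i
  have hz : ∀ l, z l ∈ Ideal.span {t ^ (m - c)} := fun l =>
    Ideal.mul_mem_right _ _ (Ideal.subset_span rfl)
  have hVle : V ≤ Ideal.span {t ^ (m - c)} := by
    rw [Ideal.span_le]
    rintro _ ⟨i, rfl⟩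
    rw [SetLike.mem_coe, hv']
    exact sub_mem (Ideal.sum_mem _ fun l _ => Ideal.mul_mem_left _ _ (hz l))
      (Ideal.mul_mem_left _ _ (hz i))
  have hkey : ∀ i, t ^ c * v i ∈ Ideal.span {t ^ (m - c)} * V := fun i => by
    have h1 : t ^ c * v i - ∑ l, My i l * v l ∈ V * V := by
      have h := Ideal.mem_map_of_mem (aeval y) (hf i)
      rw [hM, Ideal.map_pow, map_sub, map_mul, map_sum, aeval_C, sq] at h
      simp only [map_mul, Algebra.algebraMap_self, RingHom.id_apply] at h
      exact Ideal.mul_mono hKV hKV h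
    have h2 : ∑ l, My i l * v l ∈ Ideal.span {t ^ (m - c)} * V := by
      have : ∑ l, My i l * v l = ∑ s, z s * (∑ l, My i l * My l s - t ^ c * My i s) := by
        simp only [hv', mul_sub, Finset.sum_sub_distrib, Finset.mul_sum]
        congr 1
        · rw [Finset.sum_comm]
          exact Finset.sum_congr rfl fun s _ => Finset.sum_congr rfl fun l _ => by ring
        · exact Finset.sum_congr rfl fun s _ => by ring
      rw [this]
      refine Ideal.sum_mem _ fun s _ => Ideal.mul_mem_mul (hz s) (hKV ?_)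
      have := Ideal.mem_map_of_mem (aeval y) (hM2 i s)
      simpa [My] using this
    simpa using add_mem (Ideal.mul_mono hVle le_rfl h1) h2
  let V' : Ideal A := Ideal.span (Set.range fun i => t ^ c * v i)
  have hV' : V' ≤ Ideal.span {t ^ (m - 2 * c)} • V' := by
    have hVV : Ideal.span {t ^ c} * V ≤ V' := by
      rw [Ideal.span_mul_span', Ideal.span_le]
      rintro _ ⟨_, rfl, _, ⟨i, rfl⟩, rfl⟩
      exact Ideal.subset_span ⟨i, rfl⟩
    rw [Ideal.span_le]
    rintro _ ⟨i, rfl⟩
    have h : Ideal.span {t ^ (m - c)} * V = Ideal.span {t ^ (m - 2 * c)} * (Ideal.span {t ^ c} * V) := by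
      rw [← mul_assoc, Ideal.span_singleton_mul_span_singleton, ← pow_add,
        show m - 2 * c + c = m - c by omega]
    exact (Ideal.mul_mono le_rfl hVV : _ ≤ Ideal.span {t ^ (m - 2 * c)} * V') (h ▸ hkey i)
  have hbot : V' = ⊥ := by
    refine Submodule.eq_bot_of_le_smul_of_le_jacobson_bot _ V' ?_ hV' ?_
    · exact Submodule.fg_span (Set.finite_range _)
    · have h1 : Ideal.span {t ^ (m - 2 * c)} ≤ Ideal.span ({t} : Set A) :=
        Ideal.span_singleton_le_span_singleton.mpr (dvd_pow_self t (by omega))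
      exact h1.trans HenselianRing.jac
  intro i
  have h0 : t ^ c * v i = 0 := by
    have : t ^ c * v i ∈ V' := Ideal.subset_span ⟨i, rfl⟩
    rw [hbot] at this
    exact this
  obtain ⟨u, hu⟩ := Ideal.mem_span_singleton.mp (hVle (Ideal.subset_span ⟨i, rfl⟩) :
    v i ∈ Ideal.span {t ^ (m - c)})
  have hu0 : t ^ N * u = 0 := hN u ⟨c + (m - c), by rw [pow_add, mul_assoc, ← hu, h0]⟩
  show v i = 0
  rw [hu, show m - c = (m - c - N) + N by omega, pow_add, mul_assoc, hu0, mul_zero]

theorem evalₐ_factor (I : Ideal A) {n m : ℕ} (h : n ≤ m) (a : A) (s : AdicCompletion I A)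
    (hs : AdicCompletion.evalₐ I m s = Ideal.Quotient.mk _ a) :
    AdicCompletion.evalₐ I n s = Ideal.Quotient.mk _ a := by
  obtain ⟨g, rfl⟩ := AdicCompletion.mk_surjective I A s
  rw [AdicCompletion.evalₐ_mk] at hs ⊢
  rw [Ideal.Quotient.eq] at hs ⊢
  have h1 : g.val n - g.val m ∈ I ^ n := by
    have := SModEq.sub_mem.mp (g.property h)
    simpa using this
  simpa using add_mem h1 (Ideal.pow_le_pow_right h hs)

theorem exists_approx (t : A) [HenselianRing A (Ideal.span {t})]
    (hbd : ∃ N : ℕ, ∀ a : A, (∃ m : ℕ, t ^ m * a = 0) → t ^ N * a = 0)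
    (B : Type u) [CommRing B] [Algebra A B] [Algebra.FiniteType A B]
    (hsm : Algebra.Smooth (Localization.Away t)
      (Localization (Algebra.algebraMapSubmonoid B (Submonoid.powers t))))
    (n : ℕ) (σ : B →ₐ[A] AdicCompletion (Ideal.span {t}) A) :
    ∃ τ : B →ₐ[A] A,
      (Ideal.Quotient.mkₐ A (Ideal.span {t} ^ n)).comp τ =
        (AdicCompletion.evalₐ (Ideal.span {t}) n).comp σ := by
  classical
  obtain ⟨N, hN⟩ := hbd
  let I := Ideal.span ({t} : Set A)
  obtain ⟨k, π, hπ⟩ := Algebra.FiniteType.iff_quotient_mvPolynomial''.mp ‹Algebra.FiniteType A B›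
  obtain ⟨r, c, f, G, hfπ, hsat, hrel⟩ := exists_data t hsm π hπ
  let m := 2 * c + 1 + N + n
  choose x hx using fun j => Ideal.Quotient.mk_surjective
    (AdicCompletion.evalₐ I m (σ (π (X j))))
  have hxg : ∀ g, AdicCompletion.evalₐ I m (σ (π g)) = Ideal.Quotient.mk _ (aeval x g) := fun g => by
    have : ((AdicCompletion.evalₐ I m).comp σ).comp π =
        (Ideal.Quotient.mkₐ A (I ^ m)).comp (aeval x) :=
      MvPolynomial.algHom_ext fun j => by simp [hx]
    exact DFunLike.congr_fun this g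
  have hxker : ∀ g, π g = 0 → aeval x g ∈ Ideal.span {t ^ m} := fun g hg => by
    rw [← Ideal.span_singleton_pow, ← Ideal.Quotient.eq_zero_iff_mem]
    exact (hxg g).symm.trans (by rw [hg, map_zero, map_zero])
  obtain ⟨y, hy, hy0⟩ := exists_zero t c N m hN (by omega) f G hrel x fun i => hxker _ (hfπ i)
  have hker : ∀ g ∈ RingHom.ker π, aeval y g = 0 := fun g hg => by
    obtain ⟨e, he⟩ := hsat g hg
    have h1 : t ^ e * aeval y g = 0 := by
      have h0 : Ideal.span (Set.range f) ≤ RingHom.ker (aeval y) := by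
        rw [Ideal.span_le]; rintro _ ⟨i, rfl⟩; exact hy0 i
      simpa using h0 he
    have h2 : aeval y g ∈ Ideal.span {t ^ (m - c)} := by
      have hle : Ideal.span {t ^ m} ≤ Ideal.span ({t ^ (m - c)} : Set A) :=
        Ideal.span_singleton_le_span_singleton.mpr (pow_dvd_pow t (by omega))
      simpa using add_mem (aeval_sub_mem _ hy g) (hle (hxker g hg))
    obtain ⟨u, hu⟩ := Ideal.mem_span_singleton.mp h2
    have hu0 : t ^ N * u = 0 := hN u ⟨e + (m - c), by rw [pow_add, mul_assoc, ← hu, h1]⟩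
    rw [hu, show m - c = (m - c - N) + N by omega, pow_add, mul_assoc, hu0, mul_zero]
  refine ⟨(Ideal.Quotient.liftₐ _ (aeval y) hker).comp
    (Ideal.quotientKerAlgEquivOfSurjective hπ).symm.toAlgHom, ?_⟩
  refine AlgHom.ext fun b => ?_
  obtain ⟨g, rfl⟩ := hπ b
  show Ideal.Quotient.mk _ _ = AdicCompletion.evalₐ I n (σ (π g))
  rw [evalₐ_factor I (show n ≤ m by omega) _ _ (hxg g)]
  have hsymm : (Ideal.quotientKerAlgEquivOfSurjective hπ).symm (π g) = Ideal.Quotient.mk _ g :=
    (Ideal.quotientKerAlgEquivOfSurjective hπ).symm_apply_eq.mpr rfl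
  show Ideal.Quotient.mk _ (Ideal.Quotient.liftₐ _ (aeval y) hker
    ((Ideal.quotientKerAlgEquivOfSurjective hπ).symm (π g))) = _
  rw [hsymm]
  refine Ideal.Quotient.eq.mpr ?_
  rw [Ideal.span_singleton_pow]
  exact Ideal.span_singleton_le_span_singleton.mpr (pow_dvd_pow t (by omega)) (aeval_sub_mem _ hy g)

end Groth.Agent.CAlg9.Elkik
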